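import Cfsg.Agent.Lib.Helper17.E8I.DefsE
import Cfsg.Agent.Lib.Helper18.ChevOrder
import Cfsg.Agent.Lib.Helper50.E8I.C1

set_option autoImplicit false

/-! Farm E8I (helper17, S2176), piece C2: the cascade `E8 ⊃ E7 ⊃ D6`. -/

namespace Cfsg.Agent.Lib.Helper50.E8I

open Cfsg.Lie Cfsg.Agent.Lib.Helper18 Cfsg.Agent.Lib.Helper17 Cfsg.Agent.Lib.Helper36
  Cfsg.Agent.Lib.Helper6 Matrix Cfsg.Agent.Lib.Helper17.E8I

theorem C2_T1 : ∀ r : Fin 240, r.val = 239 ∨
    ∃ i ∈ [0, 1, 2, 3, 4, 5, 6, 7], chevE8.cartan i r < 0 ∧ r.val < chevE8.reflectRoot i r := by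
  decide +kernel

theorem C2_T2 : ∀ r : Fin 240, chevE8.pairing 239 r = 0 → r.val = 226 ∨
    ∃ i ∈ [0, 1, 2, 3, 4, 5, 6], chevE8.cartan i r < 0 ∧ r.val < chevE8.reflectRoot i r := by
  decide +kernel

theorem C2_T3 : ∀ r : Fin 240, chevE8.pairing 239 r = 0 → chevE8.pairing 226 r = 0 → r.val = 159 ∨
    ∃ i ∈ [1, 2, 3, 4, 5, 6], chevE8.cartan i r < 0 ∧ r.val < chevE8.reflectRoot i r := by
  decide +kernel

theorem C2_refl_lt {i r : ℕ} (hi : i < 8) (hr : r < 240) : chevE8.reflectRoot i r < 240 := by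
  have h := C1_wAct_lt [i] (by simpa using hi) r hr
  rwa [wAct_cons] at h

/-- climbing -/
theorem C2_climb (S : List ℕ) (hS : ∀ i ∈ S, i < 8) (P : ℕ → Prop) (top : ℕ)
    (hstep : ∀ r (hr : r < 240), P r → r = top ∨ ∃ i ∈ S, r < chevE8.reflectRoot i r)
    (hP : ∀ r, r < 240 → P r → ∀ i ∈ S, P (chevE8.reflectRoot i r)) :
    ∀ (n r : ℕ), r < 240 → P r → 240 - r ≤ n →
      ∃ L : List ℕ, (∀ i ∈ L, i ∈ S) ∧ wAct chevE8 L r = top := by
  intro n
  induction n with
  | zero => intro r hr _ h; omega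
  | succ n ih =>
    intro r hr hPr hn
    rcases hstep r hr hPr with rfl | ⟨i, hi, hlt⟩
    · exact ⟨[], by simp, rfl⟩
    · obtain ⟨L, hL, hw⟩ := ih (chevE8.reflectRoot i r) (C2_refl_lt (hS i hi) hr) (hP r hr hPr i hi)
        (by omega)
      refine ⟨L ++ [i], ?_, ?_⟩
      · intro j hj
        rcases List.mem_append.1 hj with h | h
        · exact hL j h
        · rw [List.mem_singleton.1 h]; exact hi
      · rw [wAct_append, wAct_cons]
        exact hw

theorem C2_F2 : ∀ i ∈ [0, 1, 2, 3, 4, 5, 6], chevE8.reflectRoot i 239 = 239 := by decide +kernel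
theorem C2_F3 : ∀ i ∈ [1, 2, 3, 4, 5, 6], chevE8.reflectRoot i 239 = 239 ∧
    chevE8.reflectRoot i 226 = 226 := by
  decide +kernel

theorem C2_fix (S : List ℕ) (x : ℕ) (h : ∀ i ∈ S, chevE8.reflectRoot i x = x) (L : List ℕ)
    (hL : ∀ i ∈ L, i ∈ S) : wAct chevE8 L x = x := by
  induction L with
  | nil => rfl
  | cons a L ih =>
    rw [wAct_cons, ih (fun i hi => hL i (by simp [hi])), h a (hL a (by simp))]

/-- the conclusion -/
def C2_Res (O : List ℕ) : Prop :=
  ∃ L : List ℕ, (∀ i ∈ L, i < 8) ∧ (O.map (wAct chevE8 L) = [239] ∨ O.map (wAct chevE8 L) = [239, 226] ∨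
      ∃ O', O.map (wAct chevE8 L) = 239 :: 226 :: 159 :: O')

theorem C2_Res_of_map {O : List ℕ} (L : List ℕ) (hL : ∀ i ∈ L, i < 8)
    (h : C2_Res (O.map (wAct chevE8 L))) : C2_Res O := by
  obtain ⟨L', hL', h'⟩ := h
  refine ⟨L' ++ L, ?_, ?_⟩
  · intro i hi
    rcases List.mem_append.1 hi with h1 | h1
    · exact hL' i h1
    · exact hL i h1
  · have e : O.map (wAct chevE8 (L' ++ L)) = (O.map (wAct chevE8 L)).map (wAct chevE8 L') := by
      rw [List.map_map]
      apply List.map_congr_left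
      intro a _
      rw [wAct_append]
      rfl
    rw [e]
    exact h'

theorem C2_lt8 {S L : List ℕ} (hS : ∀ i ∈ S, i < 8) (hL : ∀ i ∈ L, i ∈ S) : ∀ i ∈ L, i < 8 :=
  fun i hi => hS i (hL i hi)

theorem C2_s3 (O : List ℕ) (h : OL (239 :: 226 :: O)) : C2_Res (239 :: 226 :: O) := by
  cases O with
  | nil => exact ⟨[], by simp, Or.inr (Or.inl (by simp [wAct]))⟩
  | cons d O =>
    have hd : d < 240 := h.2 d (by simp)
    have hp := h.1
    simp only [List.pairwise_cons] at hp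
    obtain ⟨L, h2, h1⟩ := C2_climb [1, 2, 3, 4, 5, 6] (by decide)
      (fun r => chevE8.pairing 239 r = 0 ∧ chevE8.pairing 226 r = 0) 159
      (fun r hr hP => by
        rcases C2_T3 ⟨r, hr⟩ hP.1 hP.2 with h | ⟨i, hi, -, h⟩
        · exact Or.inl h
        · exact Or.inr ⟨i, hi, h⟩)
      (fun r hr hP i hi => by
        have hi8 : i < 8 := (by decide : ∀ j ∈ [1, 2, 3, 4, 5, 6], j < 8) i hi
        have e1 := pairing_wAct [i] (by simpa using hi8) 239 r (by norm_num) hr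
        have e2 := pairing_wAct [i] (by simpa using hi8) 226 r (by norm_num) hr
        simp only [wAct_cons] at e1 e2
        change chevE8.pairing (chevE8.reflectRoot i 239) (chevE8.reflectRoot i r) = _ at e1
        change chevE8.pairing (chevE8.reflectRoot i 226) (chevE8.reflectRoot i r) = _ at e2
        rw [(C2_F3 i hi).1] at e1
        rw [(C2_F3 i hi).2] at e2
        exact ⟨e1.trans hP.1, e2.trans hP.2⟩)
      240 d hd ⟨hp.1 d (by simp), hp.2.1 d (by simp)⟩ (by omega)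
    have hL8 := C2_lt8 (S := [1, 2, 3, 4, 5, 6]) (by decide) h2
    refine ⟨L, hL8, Or.inr (Or.inr ⟨O.map (wAct chevE8 L), ?_⟩)⟩
    simp only [List.map_cons]
    rw [C2_fix [1, 2, 3, 4, 5, 6] 239 (fun i hi => (C2_F3 i hi).1) _ h2,
      C2_fix [1, 2, 3, 4, 5, 6] 226 (fun i hi => (C2_F3 i hi).2) _ h2, h1]

theorem C2_s2 (O : List ℕ) (h : OL (239 :: O)) : C2_Res (239 :: O) := by
  cases O with
  | nil => exact ⟨[], by simp, Or.inl (by simp [wAct])⟩
  | cons d O =>
    have hd : d < 240 := h.2 d (by simp)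
    have hp := h.1
    simp only [List.pairwise_cons] at hp
    obtain ⟨L, h2, h1⟩ := C2_climb [0, 1, 2, 3, 4, 5, 6] (by decide)
      (fun r => chevE8.pairing 239 r = 0) 226
      (fun r hr hP => by
        rcases C2_T2 ⟨r, hr⟩ hP with h | ⟨i, hi, -, h⟩
        · exact Or.inl h
        · exact Or.inr ⟨i, hi, h⟩)
      (fun r hr hP i hi => by
        have hi8 : i < 8 := (by decide : ∀ j ∈ [0, 1, 2, 3, 4, 5, 6], j < 8) i hi
        have e1 := pairing_wAct [i] (by simpa using hi8) 239 r (by norm_num) hr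
        simp only [wAct_cons] at e1
        change chevE8.pairing (chevE8.reflectRoot i 239) (chevE8.reflectRoot i r) = _ at e1
        rw [C2_F2 i hi] at e1
        exact e1.trans hP)
      240 d hd (hp.1 d (by simp)) (by omega)
    have hL8 := C2_lt8 (S := [0, 1, 2, 3, 4, 5, 6]) (by decide) h2
    apply C2_Res_of_map L hL8
    have hA := OL_map L hL8 h
    simp only [List.map_cons] at hA ⊢
    rw [C2_fix [0, 1, 2, 3, 4, 5, 6] 239 C2_F2 _ h2, h1] at hA ⊢
    exact C2_s3 _ hA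

theorem cascade3 (O : List ℕ) (hO : OL O) (hne : O ≠ []) :
    ∃ L : List ℕ, (∀ i ∈ L, i < 8) ∧ (O.map (wAct chevE8 L) = [239] ∨ O.map (wAct chevE8 L) = [239, 226] ∨
      ∃ O', O.map (wAct chevE8 L) = 239 :: 226 :: 159 :: O') := by
  show C2_Res O
  cases O with
  | nil => exact absurd rfl hne
  | cons d O =>
    have hd : d < 240 := hO.2 d (by simp)
    obtain ⟨L, h2, h1⟩ := C2_climb [0, 1, 2, 3, 4, 5, 6, 7] (by decide) (fun _ => True) 239
      (fun r hr _ => by
        rcases C2_T1 ⟨r, hr⟩ with h | ⟨i, hi, -, h⟩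
        · exact Or.inl h
        · exact Or.inr ⟨i, hi, h⟩)
      (fun _ _ _ _ _ => trivial) 240 d hd trivial (by omega)
    have hL8 := C2_lt8 (S := [0, 1, 2, 3, 4, 5, 6, 7]) (by decide) h2
    apply C2_Res_of_map L hL8
    have hA := OL_map L hL8 hO
    simp only [List.map_cons] at hA ⊢
    rw [h1] at hA ⊢
    exact C2_s2 _ hA

end Cfsg.Agent.Lib.Helper50.E8I
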