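import Cfsg.Agent.Lib.Helper17.E8I.DefsE
import Cfsg.Agent.Lib.Helper18.ChevOrder

set_option autoImplicit false

/-! Farm E8I (helper17, S2176), piece C3: the 26 roots orthogonal to 239, 226, 159. -/

namespace Cfsg.Agent.Lib.Helper50.E8I

open Cfsg.Lie Cfsg.Agent.Lib.Helper18 Cfsg.Agent.Lib.Helper17 Cfsg.Agent.Lib.Helper36
  Cfsg.Agent.Lib.Helper6 Matrix Cfsg.Agent.Lib.Helper17.E8I

/-- climb: apply reflections of `S` increasing the index as long as possible -/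
def C3_climb (S : List ℕ) : ℕ → ℕ → List ℕ
  | 0, _ => []
  | fuel + 1, r =>
    match S.find? (fun i => decide (r < chevE8.reflectRoot i r)) with
    | none => []
    | some i => C3_climb S fuel (chevE8.reflectRoot i r) ++ [i]

theorem C3_tab : ∀ o : Fin 240, chevE8.pairing 239 o = 0 → chevE8.pairing 226 o = 0 →
    chevE8.pairing 159 o = 0 →
    ((∃ r : Fin 240, chevE8.pairing r 239 = 1 ∧ chevE8.pairing r 226 = 1 ∧
        chevE8.pairing r 159 = 1 ∧ chevE8.pairing r o = 1) ∧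
      wAct chevE8 (C3_climb [6] 3 o) o = 121 ∧ ∀ i ∈ C3_climb [6] 3 o, i ∈ [1, 2, 3, 4, 6]) ∨
    ((¬ ∃ r : Fin 240, chevE8.pairing r 239 = 1 ∧ chevE8.pairing r 226 = 1 ∧
        chevE8.pairing r 159 = 1 ∧ chevE8.pairing r o = 1) ∧
      wAct chevE8 (C3_climb [1, 2, 3, 4] 20 o) o = 152 ∧
      ∀ i ∈ C3_climb [1, 2, 3, 4] 20 o, i ∈ [1, 2, 3, 4, 6]) := by
  decide +kernel

theorem C3_F : ∀ i ∈ [1, 2, 3, 4, 6], chevE8.reflectRoot i 239 = 239 ∧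
    chevE8.reflectRoot i 226 = 226 ∧ chevE8.reflectRoot i 159 = 159 := by
  decide +kernel

theorem C3_fix (S : List ℕ) (x : ℕ) (h : ∀ i ∈ S, chevE8.reflectRoot i x = x) (L : List ℕ)
    (hL : ∀ i ∈ L, i ∈ S) : wAct chevE8 L x = x := by
  induction L with
  | nil => rfl
  | cons a L ih =>
    rw [wAct_cons, ih (fun i hi => hL i (by simp [hi])), h a (hL a (by simp))]

theorem C3_aux (L : List ℕ) (hL : ∀ i ∈ L, i ∈ [1, 2, 3, 4, 6]) :
    (∀ i ∈ L, i < 8) ∧ wAct chevE8 L 239 = 239 ∧ wAct chevE8 L 226 = 226 ∧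
      wAct chevE8 L 159 = 159 := by
  refine ⟨fun i hi => ?_, C3_fix _ 239 (fun i hi => (C3_F i hi).1) L hL,
    C3_fix _ 226 (fun i hi => (C3_F i hi).2.1) L hL, C3_fix _ 159 (fun i hi => (C3_F i hi).2.2) L hL⟩
  have h : ∀ j ∈ [1, 2, 3, 4, 6], j < 8 := by decide
  exact h i (hL i hi)

theorem fourth (o : ℕ) (ho : o < 240) (h1 : e8orth 239 o) (h2 : e8orth 226 o) (h3 : e8orth 159 o) :
    (isD4 239 226 159 o ∧ ∃ L : List ℕ, (∀ i ∈ L, i < 8) ∧ wAct chevE8 L 239 = 239 ∧ wAct chevE8 L 226 = 226 ∧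
        wAct chevE8 L 159 = 159 ∧ wAct chevE8 L o = 121) ∨
    (¬ isD4 239 226 159 o ∧ ∃ L : List ℕ, (∀ i ∈ L, i < 8) ∧ wAct chevE8 L 239 = 239 ∧ wAct chevE8 L 226 = 226 ∧
        wAct chevE8 L 159 = 159 ∧ wAct chevE8 L o = 152) := by
  rcases C3_tab ⟨o, ho⟩ h1 h2 h3 with ⟨a, b, c⟩ | ⟨a, b, c⟩
  · obtain ⟨c1, c2, c3, c4⟩ := C3_aux _ c
    exact Or.inl ⟨a, _, c1, c2, c3, c4, b⟩
  · obtain ⟨c1, c2, c3, c4⟩ := C3_aux _ c
    exact Or.inr ⟨a, _, c1, c2, c3, c4, b⟩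

end Cfsg.Agent.Lib.Helper50.E8I
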